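import Cfsg.Agent.Lib.Fus.Nse.Sound
import Cfsg.Agent.Lib.Fus.SmallSimple
import Cfsg.Agent.Lib.Classical.DicksonSmall
import Cfsg.Agent.Lib.Invol.SimpleOrder360

/-!
# Groups with the numbers of elements of each order of an alternating group of degree at most six
-/

set_option autoImplicit false
set_option linter.style.haveILetI false
set_option linter.unusedSectionVars false
set_option maxRecDepth 10000

open Subgroup

namespace Cfsg.Agent.Fus.Nse

universe u

variable {G : Type u} [Group G] [Finite G]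

/-- Elements of order `p` lie in the Sylow subgroups, each of which has few of them. -/
theorem num_le_sylow {p : ℕ} [hp : Fact p.Prime] {b : ℕ} (hb : ∀ P : Sylow p G, Nat.card (P : Subgroup G) ≤ b) :
    num G p ≤ Nat.card (Sylow p G) * (b - 1) := by
  classical
  cases nonempty_fintype G
  cases nonempty_fintype (Sylow p G)
  rw [num, Nat.card_eq_fintype_card, Fintype.card_subtype, Nat.card_eq_fintype_card]
  let f : Sylow p G → Finset G := fun P => ((P : Subgroup G) : Set G).toFinset.erase 1
  have h1 : Finset.univ.filter (fun g : G => orderOf g = p) ⊆ Finset.univ.biUnion f := by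
    intro g hg
    have ho := (Finset.mem_filter.1 hg).2
    have hP : IsPGroup p (zpowers g) := IsPGroup.of_card (n := 1) (by rw [Nat.card_zpowers, ho, pow_one])
    obtain ⟨P, hP⟩ := hP.exists_le_sylow
    refine Finset.mem_biUnion.2 ⟨P, Finset.mem_univ _, Finset.mem_erase.2 ⟨?_, Set.mem_toFinset.2 (hP (mem_zpowers g))⟩⟩
    rintro rfl
    exact hp.out.ne_one (ho.symm.trans orderOf_one)
  refine (Finset.card_le_card h1).trans (Finset.card_biUnion_le.trans ((Finset.sum_le_card_nsmul _ _ (b - 1) ?_).trans_eq ?_))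
  · intro P _
    have := hb P
    rw [Finset.card_erase_of_mem (by simp), Set.toFinset_card, ← Nat.card_eq_fintype_card]
    exact Nat.sub_le_sub_right this 1
  · rw [smul_eq_mul, Finset.card_univ]

/-- A normal subgroup containing a Sylow subgroup contains all elements of that prime order. -/
theorem num_lt_normal {p : ℕ} [hp : Fact p.Prime] (N : Subgroup G) [N.Normal] (h : ¬ p ∣ N.index) :
    num G p < Nat.card N := by
  have hf : ∀ g : G, orderOf g = p → g ∈ N := fun g hg => by
    rw [← QuotientGroup.eq_one_iff, ← orderOf_eq_one_iff]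
    have h1 : orderOf ((g : G ⧸ N)) ∣ p := hg ▸ orderOf_map_dvd (QuotientGroup.mk' N) g
    rcases (Nat.dvd_prime hp.out).1 h1 with e | e
    · exact e
    · exact absurd (e ▸ orderOf_dvd_natCard (g : G ⧸ N)) h
  let f : Option {g : G // orderOf g = p} → N := fun o => o.elim 1 (fun g => ⟨g.1, hf g.1 g.2⟩)
  have hinj : Function.Injective f := by
    rintro (_ | a) (_ | b) e
    · rfl
    · exact absurd (b.2.symm.trans (by rw [← show (1 : G) = b.1 from congrArg Subtype.val e, orderOf_one])) hp.out.ne_one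
    · exact absurd (a.2.symm.trans (by rw [show a.1 = (1 : G) from congrArg Subtype.val e, orderOf_one])) hp.out.ne_one
    · exact congrArg some (Subtype.ext (show a.1 = b.1 from congrArg (fun n : N => (n : G)) e))
  have := Nat.card_le_card_of_injective f hinj
  rw [Finite.card_option] at this
  exact this

/-- An element acting without fixed points on a subgroup it normalises. -/
theorem mod_eq_one {q : ℕ} [hq : Fact q.Prime] {y : G} (hy : orderOf y = q)
    (hno : ∀ g : G, q ∣ orderOf g → orderOf g = q) (K : Subgroup G) (hK : ∀ k ∈ K, y * k * y⁻¹ ∈ K)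
    (hqK : ¬ q ∣ Nat.card K) : Nat.card K % q = 1 := by
  have hle : zpowers y ≤ normalizer (K : Set G) := by
    rw [zpowers_le, mem_normalizer_iff]
    refine fun k => ⟨hK k, fun hk => ?_⟩
    have hpow : ∀ n : ℕ, ∀ x ∈ K, y ^ n * x * (y ^ n)⁻¹ ∈ K := by
      intro n
      induction n with
      | zero => simp
      | succ n ih =>
        intro x hx
        rw [show y ^ (n + 1) * x * (y ^ (n + 1))⁻¹ = y * (y ^ n * x * (y ^ n)⁻¹) * y⁻¹ by group]
        exact hK _ (ih x hx)
    have hy' : y ^ (q - 1) * y = 1 := by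
      rw [← pow_succ, Nat.sub_add_cancel hq.out.one_le, ← hy, pow_orderOf_eq_one]
    have := hpow (q - 1) _ hk
    rwa [show y ^ (q - 1) * (y * k * y⁻¹) * (y ^ (q - 1))⁻¹ = (y ^ (q - 1) * y) * k * (y ^ (q - 1) * y)⁻¹ by group,
      hy', one_mul, inv_one, mul_one] at this
  let φ : ↥(zpowers y) →* MulAut K := K.normalizerMonoidHom.comp (inclusion hle)
  letI : MulAction ↥(zpowers y) K :=
    { smul := fun g k => φ g k
      one_smul := fun k => by show φ 1 k = k; rw [map_one]; rfl
      mul_smul := fun g g' k => by show φ (g * g') k = φ g (φ g' k); rw [map_mul]; rfl }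
  have hp : IsPGroup q (zpowers y) := IsPGroup.of_card (n := 1) (by rw [Nat.card_zpowers, hy, pow_one])
  have h1 := hp.card_modEq_card_fixedPoints K
  have hfix : MulAction.fixedPoints ↥(zpowers y) K = {1} := by
    ext k
    refine ⟨fun hk => ?_, fun hk => fun g => by rw [Set.mem_singleton_iff.1 hk]; exact map_one (φ g)⟩
    have he : y * (k : G) * y⁻¹ = k := congrArg Subtype.val (hk ⟨y, mem_zpowers y⟩)
    have hcop : Nat.Coprime (orderOf y) (orderOf (k : G)) := by
      rw [hy]
      exact hq.out.coprime_iff_not_dvd.2 fun hd => hqK (hd.trans (K.orderOf_dvd_natCard k.2))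
    have ho := (show Commute y (k : G) from mul_inv_eq_iff_eq_mul.1 he).orderOf_mul_eq_mul_orderOf_of_coprime hcop
    rw [hno _ (ho ▸ hy ▸ dvd_mul_right _ _), hy] at ho
    have : orderOf (k : G) = 1 := (mul_eq_left₀ hq.out.ne_zero).1 ho.symm
    exact Set.mem_singleton_iff.2 (Subtype.ext (orderOf_eq_one_iff.1 this))
  rw [hfix, Nat.card_eq_fintype_card (α := ({1} : Set K)), Set.card_singleton] at h1
  rw [h1, Nat.one_mod_eq_one.2 hq.out.ne_one]

/-- A normal subgroup of index two contains all elements of odd prime order. -/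
theorem num_add_le (N : Subgroup G) [N.Normal] (h : N.index = 2) :
    num G 3 + num G 5 ≤ Nat.card N := by
  have hf : ∀ p, p.Prime → p ≠ 2 → ∀ g : G, orderOf g = p → g ∈ N := fun p hp h2 g hg => by
    rw [← QuotientGroup.eq_one_iff, ← orderOf_eq_one_iff]
    have h1 : orderOf ((g : G ⧸ N)) ∣ p := hg ▸ orderOf_map_dvd (QuotientGroup.mk' N) g
    have h2' : orderOf ((g : G ⧸ N)) ∣ 2 := h ▸ orderOf_dvd_natCard (g : G ⧸ N)
    exact Nat.eq_one_of_dvd_coprimes ((Nat.coprime_primes hp Nat.prime_two).2 h2) h1 h2'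
  let f : {g : G // orderOf g = 3} ⊕ {g : G // orderOf g = 5} → N := Sum.elim
    (fun g => ⟨g.1, hf 3 Nat.prime_three (by norm_num) g.1 g.2⟩)
    (fun g => ⟨g.1, hf 5 Nat.prime_five (by norm_num) g.1 g.2⟩)
  have hinj : Function.Injective f := by
    rintro (a | a) (b | b) e' <;> have := congrArg (fun n : N => (n : G)) e' <;>
      simp only [f, Sum.elim_inl, Sum.elim_inr] at this
    · exact congrArg Sum.inl (Subtype.ext this)
    · exact absurd (a.2.symm.trans ((congrArg orderOf this).trans b.2)) (by norm_num)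
    · exact absurd (a.2.symm.trans ((congrArg orderOf this).trans b.2)) (by norm_num)
    · exact congrArg Sum.inr (Subtype.ext this)
  have := Nat.card_le_card_of_injective f hinj
  rw [Nat.card_sum] at this
  exact this

theorem no_mult {m q : ℕ} (hnum : ∀ m, num G m ≠ 0 → m ∈ ([1, 2, 3, 4, 5] : List ℕ)) (hq : q = 5) (g : G)
    (hd : q ∣ orderOf g) (hm : m = orderOf g) : orderOf g = q := by
  subst hm hq
  have := hnum _ (num_ne_zero_iff.2 ⟨g, rfl⟩)
  simp only [List.mem_cons, List.not_mem_nil, or_false] at this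
  omega

/-- The group of order sixty. -/
theorem simple_sixty (hc : Nat.card G = 60) (h3 : num G 3 = 20) (h5 : num G 5 = 24)
    (hnum : ∀ m, num G m ≠ 0 → m ∈ ([1, 2, 3, 4, 5] : List ℕ)) : IsSimpleGroup G := by
  haveI : Nontrivial G := Finite.one_lt_card_iff_nontrivial.1 (by omega)
  refine ⟨fun N hN => ?_⟩
  by_contra hne
  push Not at hne
  obtain ⟨hb, ht⟩ := hne
  have hd : Nat.card N ∣ 60 := hc ▸ card_subgroup_dvd_card N
  have hm := N.card_mul_index
  rw [hc] at hm
  have hN1 : Nat.card N ≠ 1 := fun e => hb (card_eq_one.1 e)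
  have hN60 : Nat.card N ≠ 60 := fun e => ht (eq_top_of_card_eq N (e.trans hc.symm))
  haveI : Fact (Nat.Prime 3) := ⟨Nat.prime_three⟩
  haveI : Fact (Nat.Prime 5) := ⟨Nat.prime_five⟩
  have k3 : ¬ 3 ∣ N.index → 20 < Nat.card N := fun h => h3 ▸ num_lt_normal N h
  have k5 : ¬ 5 ∣ N.index → 24 < Nat.card N := fun h => h5 ▸ num_lt_normal N h
  have k : ¬ 5 ∣ Nat.card N → Nat.card N % 5 = 1 := fun h => by
    obtain ⟨y, hy⟩ := num_ne_zero_iff.1 (show num G 5 ≠ 0 by omega)
    exact mod_eq_one hy (fun g hg => no_mult hnum rfl g hg rfl) N (fun k hk => hN.conj_mem k hk y) h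
  have hle := Nat.le_of_dvd (by norm_num) hd
  have h30 : Nat.card N ≠ 30 := fun e => by
    have := num_add_le N (by rw [e] at hm; omega)
    omega
  have hi : N.index ∣ 60 := ⟨Nat.card N, by rw [mul_comm]; exact hm.symm⟩
  have hi60 := Nat.le_of_dvd (by norm_num) hi
  interval_cases hcard : Nat.card N <;> omega

/-- The group of order 360. -/
theorem simple_360 (hc : Nat.card G = 360) (h3 : num G 3 = 80) (h5 : num G 5 = 144)
    (hnum : ∀ m, num G m ≠ 0 → m ∈ ([1, 2, 3, 4, 5] : List ℕ)) : IsSimpleGroup G := by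
  haveI : Nontrivial G := Finite.one_lt_card_iff_nontrivial.1 (by omega)
  refine ⟨fun N hN => ?_⟩
  by_contra hne
  push Not at hne
  obtain ⟨hb, ht⟩ := hne
  have hd : Nat.card N ∣ 360 := hc ▸ card_subgroup_dvd_card N
  have hm := N.card_mul_index
  rw [hc] at hm
  have hN1 : Nat.card N ≠ 1 := fun e => hb (card_eq_one.1 e)
  have hN360 : Nat.card N ≠ 360 := fun e => ht (eq_top_of_card_eq N (e.trans hc.symm))
  haveI : Fact (Nat.Prime 3) := ⟨Nat.prime_three⟩
  haveI : Fact (Nat.Prime 5) := ⟨Nat.prime_five⟩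
  have k3 : ¬ 3 ∣ N.index → 80 < Nat.card N := fun h => h3 ▸ num_lt_normal N h
  have k5 : ¬ 5 ∣ N.index → 144 < Nat.card N := fun h => h5 ▸ num_lt_normal N h
  obtain ⟨y, hy⟩ := num_ne_zero_iff.1 (show num G 5 ≠ 0 by omega)
  have k : ∀ K : Subgroup G, (∀ k ∈ K, y * k * y⁻¹ ∈ K) → ¬ 5 ∣ Nat.card K → Nat.card K % 5 = 1 :=
    fun K hK h => mod_eq_one hy (fun g hg => no_mult hnum rfl g hg rfl) K hK h
  have k' := k N (fun k hk => hN.conj_mem k hk y)
  have h180 : Nat.card N ≠ 180 := fun e => by
    have := num_add_le N (by rw [e] at hm; omega)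
    omega
  have h6 : Nat.card N ≠ 6 := fun e => by
    -- its Sylow three-subgroup would be normal
    obtain ⟨P⟩ : Nonempty (Sylow 3 N) := inferInstance
    have hPc : Nat.card (P : Subgroup N) = 3 := by
      rw [P.card_eq_multiplicity, e, show (6 : ℕ) = 3 ^ 1 * 2 by norm_num,
        Nat.factorization_mul (by norm_num) (by norm_num), Finsupp.add_apply,
        Nat.Prime.factorization_pow Nat.prime_three, Finsupp.single_eq_same,
        Nat.factorization_eq_zero_of_not_dvd (by norm_num : ¬ 3 ∣ 2)]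
      norm_num
    have hidx : (P : Subgroup N).index = 2 := by
      have := (P : Subgroup N).card_mul_index
      rw [hPc, e] at this; omega
    haveI := normal_of_index_eq_two hidx
    haveI : (P : Subgroup N).Characteristic := Sylow.characteristic_of_normal P inferInstance
    have := k ((P : Subgroup N).map N.subtype) (fun x hx => by
      haveI := hN
      exact (ConjAct.normal_of_characteristic_of_normal (H := N) (K := (P : Subgroup N))).conj_mem x hx y)
      (by rw [card_map_of_injective N.subtype_injective, hPc]; norm_num)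
    rw [card_map_of_injective N.subtype_injective, hPc] at this
    norm_num at this
  have hle := Nat.le_of_dvd (by norm_num) hd
  have hcases : Nat.card N ∈ divs 360 := by
    rw [divs, List.mem_filter, List.mem_range]
    exact ⟨by omega, by simpa using Nat.mod_eq_zero_of_dvd hd⟩
  rw [show divs 360 = [1, 2, 3, 4, 5, 6, 8, 9, 10, 12, 15, 18, 20, 24, 30, 36, 40, 45, 60, 72, 90, 120, 180, 360]
    by decide +kernel] at hcases
  simp only [List.mem_cons, List.not_mem_nil, or_false] at hcases
  have hi : N.index = 360 / Nat.card N := by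
    rw [← hm, Nat.mul_div_cancel_left _ Nat.card_pos]
  rcases hcases with e | e | e | e | e | e | e | e | e | e | e | e | e | e | e | e | e | e | e | e | e | e | e | e <;>
    rw [e] at hi <;> omega

/-- The group of order twelve. -/
theorem twelve (hc : Nat.card G = 12) (h3 : num G 3 = 8) : Nonempty (G ≃* alternatingGroup (Fin 4)) := by
  haveI : Fact (Nat.Prime 3) := ⟨Nat.prime_three⟩
  have hP : ∀ P : Sylow 3 G, Nat.card (P : Subgroup G) = 3 := fun P => by
    rw [P.card_eq_multiplicity, hc, show (12 : ℕ) = 3 ^ 1 * 4 by norm_num,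
      Nat.factorization_mul (by norm_num) (by norm_num), Finsupp.add_apply,
      Nat.Prime.factorization_pow Nat.prime_three, Finsupp.single_eq_same,
      Nat.factorization_eq_zero_of_not_dvd (by norm_num : ¬ 3 ∣ 4)]
    norm_num
  have h1 := num_le_sylow (G := G) (p := 3) (b := 3) fun P => (hP P).le
  rw [h3] at h1
  obtain ⟨P⟩ : Nonempty (Sylow 3 G) := inferInstance
  have h2 : Nat.card (Sylow 3 G) = (normalizer ((P : Subgroup G) : Set G)).index := P.card_eq_index_normalizer
  refine Dickson.nonempty_alternating_four hc P (hP P) (le_antisymm ?_ le_normalizer)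
  refine (eq_of_le_of_card_ge le_normalizer ?_).ge
  have h4 := (normalizer ((P : Subgroup G) : Set G)).card_mul_index
  rw [hc, ← h2] at h4
  rw [hP P]
  by_contra hh
  have : 4 * Nat.card (Sylow 3 G) ≤ Nat.card (normalizer ((P : Subgroup G) : Set G)) * Nat.card (Sylow 3 G) :=
    Nat.mul_le_mul_right _ (by omega)
  omega

theorem num_iff (v : ℕ) :
    v ∈ (fun m : ℕ => Nat.card {g : G // orderOf g = m}) '' Set.range (orderOf : G → ℕ) ↔
      ∃ m, num G m ≠ 0 ∧ num G m = v := by
  simp only [Set.mem_image, Set.mem_range, num_ne_zero_iff]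
  rfl

theorem values_eq {A : Type} [Group A] [Fintype A] [DecidableEq A] {two : ℕ} {vals : List ℕ} (ords : List ℕ)
    (hord : ∀ a : A, ∃ m ∈ ords, orderOf a = m)
    (hcnt : ∀ m ∈ ords, num A m ≠ 0 ∧ (num A m = 1 ∨ num A m = two ∨ num A m ∈ vals))
    (hex : ∀ v, v = 1 ∨ v = two ∨ v ∈ vals → ∃ m ∈ ords, num A m = v) (v : ℕ) :
    (∃ m, num A m ≠ 0 ∧ num A m = v) ↔ v = 1 ∨ v = two ∨ v ∈ vals := by
  constructor
  · rintro ⟨m, hm, rfl⟩
    obtain ⟨a, ha⟩ := num_ne_zero_iff.1 hm
    obtain ⟨m', hm', e⟩ := hord a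
    exact (hcnt m (ha ▸ e ▸ hm')).2
  · intro hv
    obtain ⟨m, hm, e⟩ := hex v hv
    exact ⟨m, (hcnt m hm).1, e⟩

theorem num_eq_filter {A : Type} [Group A] [Fintype A] [DecidableEq A] (m : ℕ) (hm : 0 < m) :
    num A m = (Finset.univ.filter fun a : A => a ^ m = 1 ∧ ∀ k < m, 0 < k → a ^ k ≠ 1).card := by
  rw [num, Nat.card_eq_fintype_card, Fintype.card_subtype]
  exact congrArg Finset.card (Finset.filter_congr fun a _ => orderOf_eq_iff hm)

theorem alt_four (v : ℕ) : (∃ m, num (alternatingGroup (Fin 4)) m ≠ 0 ∧ num (alternatingGroup (Fin 4)) m = v) ↔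
    v = 1 ∨ v = four.two ∨ v ∈ four.vals := by
  have h1 : num (alternatingGroup (Fin 4)) 1 = 1 := by rw [num_eq_filter 1 one_pos]; decide +kernel
  have h2 : num (alternatingGroup (Fin 4)) 2 = 3 := by rw [num_eq_filter 2 two_pos]; decide +kernel
  have h3 : num (alternatingGroup (Fin 4)) 3 = 8 := by rw [num_eq_filter 3 three_pos]; decide +kernel
  refine values_eq [1, 2, 3] (fun a => ?_) (by simp [h1, h2, h3, four]) (by
    rintro v (rfl | rfl | hv)
    · exact ⟨1, by simp, h1⟩
    · exact ⟨2, by simp, h2⟩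
    · simp only [four, List.mem_cons, List.not_mem_nil, or_false] at hv; subst hv; exact ⟨3, by simp, h3⟩) v
  have : ∀ a : alternatingGroup (Fin 4), a ^ 2 = 1 ∨ a ^ 3 = 1 := by decide +kernel
  rcases this a with h | h <;> have := orderOf_dvd_of_pow_eq_one h
  · rcases (Nat.dvd_prime Nat.prime_two).1 this with e | e <;> exact ⟨_, by simp, e⟩
  · rcases (Nat.dvd_prime Nat.prime_three).1 this with e | e <;> exact ⟨_, by simp, e⟩

theorem alt_five (v : ℕ) : (∃ m, num (alternatingGroup (Fin 5)) m ≠ 0 ∧ num (alternatingGroup (Fin 5)) m = v) ↔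
    v = 1 ∨ v = five.two ∨ v ∈ five.vals := by
  have h1 : num (alternatingGroup (Fin 5)) 1 = 1 := by rw [num_eq_filter 1 one_pos]; decide +kernel
  have h2 : num (alternatingGroup (Fin 5)) 2 = 15 := by rw [num_eq_filter 2 two_pos]; decide +kernel
  have h3 : num (alternatingGroup (Fin 5)) 3 = 20 := by rw [num_eq_filter 3 three_pos]; decide +kernel
  have h5 : num (alternatingGroup (Fin 5)) 5 = 24 := by rw [num_eq_filter 5 (by norm_num)]; decide +kernel
  refine values_eq [1, 2, 3, 5] (fun a => ?_) (by simp [h1, h2, h3, h5, five]) (by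
    rintro v (rfl | rfl | hv)
    · exact ⟨1, by simp, h1⟩
    · exact ⟨2, by simp, h2⟩
    · simp only [five, List.mem_cons, List.not_mem_nil, or_false] at hv
      rcases hv with rfl | rfl
      exacts [⟨3, by simp, h3⟩, ⟨5, by simp, h5⟩]) v
  have : ∀ a : alternatingGroup (Fin 5), a ^ 2 = 1 ∨ a ^ 3 = 1 ∨ a ^ 5 = 1 := by decide +kernel
  rcases this a with h | h | h <;> have := orderOf_dvd_of_pow_eq_one h
  · rcases (Nat.dvd_prime Nat.prime_two).1 this with e | e <;> exact ⟨_, by simp, e⟩
  · rcases (Nat.dvd_prime Nat.prime_three).1 this with e | e <;> exact ⟨_, by simp, e⟩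
  · rcases (Nat.dvd_prime Nat.prime_five).1 this with e | e <;> exact ⟨_, by simp, e⟩

set_option maxHeartbeats 1000000 in
theorem alt_six (v : ℕ) : (∃ m, num (alternatingGroup (Fin 6)) m ≠ 0 ∧ num (alternatingGroup (Fin 6)) m = v) ↔
    v = 1 ∨ v = six.two ∨ v ∈ six.vals := by
  have h1 : num (alternatingGroup (Fin 6)) 1 = 1 := by rw [num_eq_filter 1 one_pos]; decide +kernel
  have h2 : num (alternatingGroup (Fin 6)) 2 = 45 := by rw [num_eq_filter 2 two_pos]; decide +kernel
  have h3 : num (alternatingGroup (Fin 6)) 3 = 80 := by rw [num_eq_filter 3 three_pos]; decide +kernel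
  have h4 : num (alternatingGroup (Fin 6)) 4 = 90 := by rw [num_eq_filter 4 four_pos]; decide +kernel
  have h5 : num (alternatingGroup (Fin 6)) 5 = 144 := by rw [num_eq_filter 5 (by norm_num)]; decide +kernel
  refine values_eq [1, 2, 3, 4, 5] (fun a => ?_) (by simp [h1, h2, h3, h4, h5, six]) (by
    rintro v (rfl | rfl | hv)
    · exact ⟨1, by simp, h1⟩
    · exact ⟨2, by simp, h2⟩
    · simp only [six, List.mem_cons, List.not_mem_nil, or_false] at hv
      rcases hv with rfl | rfl | rfl
      exacts [⟨3, by simp, h3⟩, ⟨4, by simp, h4⟩, ⟨5, by simp, h5⟩]) v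
  have : ∀ a : alternatingGroup (Fin 6), a ^ 4 = 1 ∨ a ^ 3 = 1 ∨ a ^ 5 = 1 := by decide +kernel
  rcases this a with h | h | h <;> have := orderOf_dvd_of_pow_eq_one h
  · obtain ⟨k, hk, e⟩ := (Nat.dvd_prime_pow Nat.prime_two (m := 2)).1 this
    interval_cases k <;> exact ⟨_, by simp, e⟩
  · rcases (Nat.dvd_prime Nat.prime_three).1 this with e | e <;> exact ⟨_, by simp, e⟩
  · rcases (Nat.dvd_prime Nat.prime_five).1 this with e | e <;> exact ⟨_, by simp, e⟩

/-- The recognition. -/
theorem recognise (n : ℕ) (hn : n = 4 ∨ n = 5 ∨ n = 6)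
    (h : ∀ v, (∃ m, num G m ≠ 0 ∧ num G m = v) ↔
      ∃ m, num (alternatingGroup (Fin n)) m ≠ 0 ∧ num (alternatingGroup (Fin n)) m = v) :
    Nonempty (G ≃* alternatingGroup (Fin n)) := by
  rcases hn with rfl | rfl | rfl
  · obtain ⟨hc, hm⟩ := four.determine four_good four_run (fun v => (h v).trans (alt_four v))
    have h3 : num G 3 = 8 := by
      obtain ⟨m, hm0, e⟩ := ((h 8).trans (alt_four 8)).2 (by simp [four])
      have := hm m hm0
      simp only [four, List.mem_cons, List.not_mem_nil, or_false, Prod.ext_iff] at this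
      rcases this with ⟨rfl, -⟩ | ⟨rfl, h'⟩ | ⟨rfl, h'⟩ <;> omega
    exact twelve (hc.trans (by decide +kernel)) h3
  · obtain ⟨hc, hm⟩ := five.determine five_good five_run (fun v => (h v).trans (alt_five v))
    have hnum : ∀ m, num G m ≠ 0 → m ∈ ([1, 2, 3, 4, 5] : List ℕ) := fun m hm0 => by
      have := hm m hm0
      simp only [five, List.mem_cons, List.not_mem_nil, or_false, Prod.ext_iff] at this ⊢
      omega
    have key : ∀ v, v ∈ five.vals → ∃ m, num G m = v ∧ (m, v) ∈ five.target := fun v hv => by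
      obtain ⟨m, hm0, e⟩ := ((h v).trans (alt_five v)).2 (Or.inr (Or.inr hv))
      exact ⟨m, e, e ▸ hm m hm0⟩
    obtain ⟨a, ha, ha'⟩ := key 20 (by simp [five])
    obtain ⟨b, hb, hb'⟩ := key 24 (by simp [five])
    simp [five] at ha' hb'
    subst ha' hb'
    have hG : Nat.card G = 60 := hc.trans (by decide +kernel)
    haveI := simple_sixty hG ha hb hnum
    exact alternating_five_of_card hG
  · obtain ⟨hc, hm⟩ := six.determine six_good six_run (fun v => (h v).trans (alt_six v))
    have hnum : ∀ m, num G m ≠ 0 → m ∈ ([1, 2, 3, 4, 5] : List ℕ) := fun m hm0 => by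
      have := hm m hm0
      simp only [six, List.mem_cons, List.not_mem_nil, or_false, Prod.ext_iff] at this ⊢
      omega
    have key : ∀ v, v ∈ six.vals → ∃ m, num G m = v ∧ (m, v) ∈ six.target := fun v hv => by
      obtain ⟨m, hm0, e⟩ := ((h v).trans (alt_six v)).2 (Or.inr (Or.inr hv))
      exact ⟨m, e, e ▸ hm m hm0⟩
    obtain ⟨a, ha, ha'⟩ := key 80 (by simp [six])
    obtain ⟨b, hb, hb'⟩ := key 144 (by simp [six])
    simp [six] at ha' hb'
    subst ha' hb'
    have hG : Nat.card G = 360 := hc.trans (by decide +kernel)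
    haveI := simple_360 hG ha hb hnum
    haveI : IsSimpleGroup (alternatingGroup (Fin 6)) := alternatingGroup.isSimpleGroup (by simp)
    refine Invol.O360.iso hG ?_
    rw [nat_card_alternatingGroup, Nat.card_fin]
    rfl

end Cfsg.Agent.Fus.Nse
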