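import Cfsg.Agent.Lib.Fus.Nse.Search

/-!
# The searches for the three alternating groups
-/

set_option autoImplicit false
set_option maxRecDepth 10000

namespace Cfsg.Agent.Fus.Nse

/-- The data for `four`. -/
def four : Spec where
  two := 3
  vals := [8]
  e2 := 4
  e3 := 2
  e5 := 0
  e7 := 0
  vars := [
  (4, [8], [2]),
  (8, [8], [4]),
  (16, [8], [8]),
  (3, [8], [1]),
  (6, [8], [3, 2]),
  (12, [8], [6, 4]),
  (24, [8], [12, 8])]
  primes := [2, 3, 5, 7]
  checks := []
  target := [(3, 8), (2, 3), (1, 1)]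

theorem four_run : four.run = true := by decide +kernel

/-- The data for `five`. -/
def five : Spec where
  two := 15
  vals := [20, 24]
  e2 := 4
  e3 := 2
  e5 := 2
  e7 := 0
  vars := [
  (4, [20, 24], [2]),
  (8, [20, 24], [4]),
  (16, [24], [8]),
  (3, [20], [1]),
  (6, [20, 24], [3, 2]),
  (9, [24], [3]),
  (12, [20, 24], [6, 4]),
  (18, [24], [9, 6]),
  (24, [24], [12, 8]),
  (36, [24], [18, 12]),
  (72, [24], [36, 24]),
  (5, [24], [1]),
  (10, [20, 24], [5, 2]),
  (15, [24], [5, 3]),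
  (20, [24], [10, 4]),
  (25, [20], [5]),
  (30, [24], [15, 10, 6]),
  (45, [24], [15, 9]),
  (50, [20], [25, 10]),
  (90, [24], [45, 30, 18])]
  primes := [2, 3, 5, 7]
  checks := [16, 27, 60]
  target := [(5, 24), (3, 20), (2, 15), (1, 1)]

theorem five_run : five.run = true := by decide +kernel

/-- The data for `six`. -/
def six : Spec where
  two := 45
  vals := [80, 90, 144]
  e2 := 5
  e3 := 3
  e5 := 2
  e7 := 1
  vars := [
  (4, [80, 90, 144], [2]),
  (8, [80, 144], [4]),
  (16, [80, 144], [8]),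
  (32, [80, 144], [16]),
  (3, [80], [1]),
  (6, [80, 90, 144], [3, 2]),
  (9, [90, 144], [3]),
  (12, [80, 144], [6, 4]),
  (18, [90, 144], [9, 6]),
  (24, [80, 144], [12, 8]),
  (27, [90, 144], [9]),
  (36, [144], [18, 12]),
  (48, [80, 144], [24, 16]),
  (54, [90, 144], [27, 18]),
  (72, [144], [36, 24]),
  (108, [144], [54, 36]),
  (144, [144], [72, 48]),
  (216, [144], [108, 72]),
  (432, [144], [216, 144]),
  (5, [144], [1]),
  (10, [80, 144], [5, 2]),
  (15, [80, 144], [5, 3]),
  (20, [80, 144], [10, 4]),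
  (25, [80], [5]),
  (30, [80, 144], [15, 10, 6]),
  (40, [80, 144], [20, 8]),
  (45, [144], [15, 9]),
  (50, [80], [25, 10]),
  (60, [80, 144], [30, 20, 12]),
  (75, [80], [25, 15]),
  (90, [144], [45, 30, 18]),
  (100, [80], [50, 20]),
  (135, [144], [45, 27]),
  (150, [80], [75, 50, 30]),
  (180, [144], [90, 60, 36]),
  (200, [80], [100, 40]),
  (270, [144], [135, 90, 54]),
  (300, [80], [150, 100, 60]),
  (540, [144], [270, 180, 108]),
  (7, [90], [1]),
  (14, [90, 144], [7, 2]),
  (21, [144], [7, 3]),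
  (28, [144], [14, 4]),
  (35, [144], [7, 5]),
  (42, [144], [21, 14, 6]),
  (56, [144], [28, 8]),
  (63, [144], [21, 9]),
  (70, [144], [35, 14, 10]),
  (84, [144], [42, 28, 12]),
  (105, [144], [35, 21, 15]),
  (112, [144], [56, 16]),
  (126, [144], [63, 42, 18]),
  (140, [144], [70, 28, 20]),
  (168, [144], [84, 56, 24]),
  (210, [144], [105, 70, 42, 30]),
  (252, [144], [126, 84, 36]),
  (315, [144], [105, 63, 45]),
  (504, [144], [252, 168, 72]),
  (630, [144], [315, 210, 126, 90])]
  primes := [2, 3, 5, 7]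
  checks := [40, 72, 135, 162, 200, 225, 315, 441]
  target := [(5, 144), (3, 80), (4, 90), (2, 45), (1, 1)]

theorem six_run : six.run = true := by decide +kernel

end Cfsg.Agent.Fus.Nse
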