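import Mathlib

/-!
# A search over the possible numbers of elements of each order

The search is over association lists `(order, number of elements)` with positive numbers.
-/

set_option autoImplicit false

namespace Cfsg.Agent.Fus.Nse

/-- A state of the search. -/
abbrev St : Type := List (ℕ × ℕ)

/-- Whether an order is present. -/
def present : St → ℕ → Bool
  | [], _ => false
  | (m, _) :: r, q => if m == q then true else present r q

/-- The number of elements killed by `d`. -/
def dsum : St → ℕ → ℕ
  | [], _ => 0
  | (m, v) :: r, d => (if d % m == 0 then v else 0) + dsum r d

/-- A variable: an order, its admissible positive numbers, and the maximal proper divisors. -/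
abbrev Var : Type := ℕ × List ℕ × List ℕ

/-- The search. -/
def search (leaf : St → Bool) : List Var → St → Bool
  | [], acc => leaf acc
  | (m, opts, qs) :: r, acc =>
    if qs.all (present acc) then
      search leaf r acc &&
        opts.all (fun v => if dsum ((m, v) :: acc) m % m == 0 then search leaf r ((m, v) :: acc) else true)
    else search leaf r acc

/-- The data of a case. -/
structure Spec where
  two : ℕ
  vals : List ℕ
  e2 : ℕ
  e3 : ℕ
  e5 : ℕ
  e7 : ℕ
  vars : List Var
  primes : List ℕ
  checks : List ℕ
  target : St

/-- The bound for all orders. -/
def Spec.top (S : Spec) : ℕ := 2 ^ S.e2 * 3 ^ S.e3 * 5 ^ S.e5 * 7 ^ S.e7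

/-- The final test of a state. -/
def Spec.leaf (S : Spec) (acc : St) : Bool :=
  if acc == S.target then true else
    let N := dsum acc S.top
    !((decide (2 ^ 20 < N) || 210 ^ 20 % N == 0) && acc.all (fun p => N % p.1 == 0) &&
      S.primes.all (fun p => N % p != 0 || present acc p) &&
      S.checks.all (fun d => N % d != 0 || dsum acc d % d == 0) &&
      S.vals.all (fun v => acc.any (fun p => p.2 == v)))

/-- The success of a search. -/
def Spec.run (S : Spec) : Bool := search S.leaf S.vars [(2, S.two), (1, 1)]

end Cfsg.Agent.Fus.Nse
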