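import Cfsg.Agent.Lib.Fus.Nse.Cases
import Cfsg.Agent.Lib.Grp.PowerCount

/-!
# The numbers of elements of each order are determined by their set
-/

set_option autoImplicit false
set_option linter.style.haveILetI false
set_option linter.unusedSectionVars false

namespace Cfsg.Agent.Fus.Nse

universe u

variable (G : Type u) [Group G] [Finite G]

/-- The number of elements of a given order. -/
noncomputable def num (m : ℕ) : ℕ := Nat.card {g : G // orderOf g = m}

/-- The state given by the true numbers. -/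
noncomputable def enc : List ℕ → St
  | [] => []
  | m :: r => if num G m = 0 then enc r else (m, num G m) :: enc r

variable {G}

theorem num_ne_zero_iff {m : ℕ} : num G m ≠ 0 ↔ ∃ g : G, orderOf g = m := by
  rw [num, ← Nat.pos_iff_ne_zero, Nat.card_pos_iff]
  exact ⟨fun h => h.1.elim fun g => ⟨g.1, g.2⟩, fun ⟨g, hg⟩ => ⟨⟨⟨g, hg⟩⟩, inferInstance⟩⟩

theorem num_ne_zero_of_dvd {d m : ℕ} (hm : num G m ≠ 0) (hd : d ∣ m) : num G d ≠ 0 := by
  obtain ⟨g, hg⟩ := num_ne_zero_iff.1 hm
  obtain ⟨c, rfl⟩ := hd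
  refine num_ne_zero_iff.2 ⟨g ^ c, ?_⟩
  have hc : c ≠ 0 := by rintro rfl; rw [mul_zero] at hg; exact absurd hg (orderOf_pos g).ne'
  rw [orderOf_pow' g hc, hg, Nat.gcd_mul_left_left]
  exact Nat.mul_div_cancel _ (Nat.pos_of_ne_zero hc)

theorem totient_dvd_num (m : ℕ) : m.totient ∣ num G m :=
  Grp.PowCount.dvd_card_of_zpowers_closed (fun g : G => orderOf g = m)
    (fun x y hx e => by rw [← Nat.card_zpowers, e, Nat.card_zpowers]; exact hx)
    fun x hx => by rw [hx]

theorem present_enc : ∀ (l : List ℕ) (q : ℕ), present (enc G l) q = true ↔ q ∈ l ∧ num G q ≠ 0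
  | [], q => by simp [enc, present]
  | m :: r, q => by
    by_cases h : num G m = 0
    · rw [enc, if_pos h, present_enc r q, List.mem_cons]
      constructor
      · exact fun hh => ⟨Or.inr hh.1, hh.2⟩
      · rintro ⟨rfl | hh, hne⟩
        exacts [absurd h hne, ⟨hh, hne⟩]
    · rw [enc, if_neg h, present, List.mem_cons]
      by_cases e : m = q
      · subst e; simp [h]
      · rw [if_neg (by simpa using e), present_enc r q]
        simp [Ne.symm e]

theorem dsum_enc (d : ℕ) : ∀ l : List ℕ, l.Nodup →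
    dsum (enc G l) d = Nat.card {g : G // g ^ d = 1 ∧ orderOf g ∈ l}
  | [], _ => by simp [enc, dsum]
  | m :: r, hn => by
    classical
    rw [List.nodup_cons] at hn
    have ih := dsum_enc d r hn.2
    have hsplit : Nat.card {g : G // g ^ d = 1 ∧ orderOf g ∈ m :: r} =
        Nat.card {g : G // g ^ d = 1 ∧ orderOf g = m} + Nat.card {g : G // g ^ d = 1 ∧ orderOf g ∈ r} := by
      rw [← Nat.card_sum]
      refine Nat.card_congr ?_
      refine (Equiv.subtypeEquivRight fun g => ?_).trans (subtypeOrEquiv (fun g : G => g ^ d = 1 ∧ orderOf g = m)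
        (fun g => g ^ d = 1 ∧ orderOf g ∈ r) ?_)
      · rw [List.mem_cons]; tauto
      · rw [Pi.disjoint_iff]
        intro g
        simp only [Prop.disjoint_iff]
        rintro ⟨⟨-, e⟩, -, hr⟩
        exact hn.1 (e ▸ hr)
    have hm : Nat.card {g : G // g ^ d = 1 ∧ orderOf g = m} = if d % m == 0 then num G m else 0 := by
      by_cases e : d % m = 0
      · rw [if_pos (by simpa using e)]
        refine Nat.card_congr (Equiv.subtypeEquivRight fun g => and_iff_right_iff_imp.2 ?_)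
        intro hg
        exact orderOf_dvd_iff_pow_eq_one.1 (hg ▸ Nat.dvd_of_mod_eq_zero e)
      · rw [if_neg (by simpa using e), Nat.card_eq_zero]
        refine Or.inl ⟨fun g => e ?_⟩
        have := orderOf_dvd_iff_pow_eq_one.2 g.2.1
        rw [g.2.2] at this
        exact Nat.mod_eq_zero_of_dvd this
    rw [hsplit, hm, ← ih]
    by_cases h : num G m = 0
    · rw [enc, if_pos h]; simp [h]
    · rw [enc, if_neg h, dsum]

theorem frobenius {d : ℕ} (hd : d ∣ Nat.card G) : d ∣ Nat.card {g : G // g ^ d = 1} :=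
  Grp.PowCount.dvd_card_sol _ G rfl d hd

theorem dsum_full {l : List ℕ} (hl : l.Nodup) {d : ℕ} (hall : ∀ g : G, g ^ d = 1 → orderOf g ∈ l) :
    dsum (enc G l) d = Nat.card {g : G // g ^ d = 1} := by
  rw [dsum_enc d l hl]
  exact Nat.card_congr (Equiv.subtypeEquivRight fun g => and_iff_left_iff_imp.2 (hall g))

theorem search_sound (leaf : St → Bool) : ∀ (rest : List Var) (done : List ℕ),
    search leaf rest (enc G done) = true →
    (∀ g : G, orderOf g ∈ done ∨ orderOf g ∈ rest.map Prod.fst) →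
    ((rest.map Prod.fst).reverse ++ done).Nodup →
    rest.Pairwise (fun a b => ¬ b.1 ∣ a.1) →
    (∀ x ∈ rest, (num G x.1 ≠ 0 → num G x.1 ∈ x.2.1) ∧ ∀ q ∈ x.2.2, q ∣ x.1 ∧ q ≠ x.1) →
    leaf (enc G ((rest.map Prod.fst).reverse ++ done)) = true
  | [], done, h, _, _, _, _ => by simpa [search] using h
  | (m, opts, qs) :: r, done, h, hcover, hnd, hord, hvar => by
    rw [List.pairwise_cons] at hord
    have he : ((((m, opts, qs) :: r).map Prod.fst).reverse ++ done) = (r.map Prod.fst).reverse ++ (m :: done) := by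
      simp
    rw [he] at hnd ⊢
    obtain ⟨hopt, hqs⟩ := hvar _ List.mem_cons_self
    have hcover' : ∀ g : G, orderOf g ∈ m :: done ∨ orderOf g ∈ r.map Prod.fst := fun g => by
      rcases hcover g with h1 | h1
      · exact Or.inl (List.mem_cons_of_mem m h1)
      · rcases List.mem_cons.1 h1 with h2 | h2
        · exact Or.inl (h2 ▸ List.mem_cons_self)
        · exact Or.inr h2
    refine search_sound leaf r (m :: done) ?_ hcover' hnd hord.2
      (fun x hx => hvar x (List.mem_cons_of_mem _ hx))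
    rw [search] at h
    by_cases hm : num G m = 0
    · rw [enc, if_pos hm]
      split_ifs at h
      · exact (Bool.and_eq_true _ _ ▸ h).1
      · exact h
    have hdiv : ∀ g : G, g ^ m = 1 → orderOf g ∈ m :: done := fun g hg => by
      refine (hcover' g).resolve_right fun h1 => ?_
      obtain ⟨x, hx, e⟩ := List.mem_map.1 h1
      exact hord.1 x hx (e ▸ orderOf_dvd_of_pow_eq_one hg)
    have hq : qs.all (present (enc G done)) = true := by
      rw [List.all_eq_true]
      intro q hq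
      obtain ⟨hd, hne⟩ := hqs q hq
      have hnz := num_ne_zero_of_dvd hm hd
      obtain ⟨g, hg⟩ := num_ne_zero_iff.1 hnz
      refine (present_enc done q).2 ⟨?_, hnz⟩
      have := hdiv g (orderOf_dvd_iff_pow_eq_one.1 (hg ▸ hd))
      rw [hg, List.mem_cons] at this
      exact this.resolve_left hne
    rw [if_pos hq, Bool.and_eq_true, List.all_eq_true] at h
    have hstep := h.2 _ (hopt hm)
    have hdm : dsum ((m, num G m) :: enc G done) m % m = 0 := by
      have h1 := dsum_full (G := G) (l := m :: done) ((List.nodup_append.1 hnd).2.1) hdiv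
      rw [enc, if_neg hm] at h1
      rw [h1]
      obtain ⟨g, hg⟩ := num_ne_zero_iff.1 hm
      exact Nat.mod_eq_zero_of_dvd (frobenius (hg ▸ orderOf_dvd_natCard g))
    rw [if_pos (by simpa using hdm)] at hstep
    rwa [enc, if_neg hm]

/-- Divisors. -/
def divs (n : ℕ) : List ℕ := (List.range (n + 1)).filter fun a => n % a == 0

/-- The decidable facts about a case. -/
structure Spec.Good (S : Spec) : Prop where
  two_ne : S.two ≠ 1 ∧ S.two % 2 = 1
  even : ∀ v ∈ S.vals, v % 2 = 0 ∧ 0 < v ∧ v < 200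
  primes : ∀ v ∈ S.vals, ∀ p < 202, Nat.Prime p → (p - 1) ∣ v → p ∣ 1 + v → p = 2 ∨ p = 3 ∨ p = 5 ∨ p = 7
  exps : ∀ v ∈ S.vals, ∀ k < 10, (2 ^ (k + 1) ∣ v → k + 2 ≤ S.e2) ∧ (3 ^ k * 2 ∣ v → (k = 0 → 3 ∣ 1 + v) → k + 1 ≤ S.e3) ∧
    (5 ^ k * 4 ∣ v → (k = 0 → 5 ∣ 1 + v) → k + 1 ≤ S.e5) ∧ (7 ^ k * 6 ∣ v → (k = 0 → 7 ∣ 1 + v) → k + 1 ≤ S.e7)
  e2pos : 1 ≤ S.e2
  cover : ∀ a ∈ divs (2 ^ S.e2), ∀ b ∈ divs (3 ^ S.e3), ∀ c ∈ divs (5 ^ S.e5), ∀ d ∈ divs (7 ^ S.e7),
    ∀ v ∈ S.vals, a.totient * b.totient * c.totient * d.totient ∣ v →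
      ((a * b * c * d = 3 ∨ a * b * c * d = 5 ∨ a * b * c * d = 7) → a * b * c * d ∣ 1 + v) →
      a * b * c * d ≤ 2 ∨ ∃ x ∈ S.vars, x.1 = a * b * c * d ∧ v ∈ x.2.1
  distinct : ((S.vars.map Prod.fst).reverse ++ [2, 1]).Nodup
  ordered : S.vars.Pairwise (fun a b => ¬ b.1 ∣ a.1)
  small : ∀ x ∈ S.vars, 2 < x.1 ∧ x.1 ∣ S.top ∧ ∀ q ∈ x.2.2, q ∣ x.1 ∧ q ≠ x.1
  checks : S.primes = [2, 3, 5, 7]

theorem dvd_bound {N : ℕ} (h : ∀ p, p.Prime → p ∣ N → p = 2 ∨ p = 3 ∨ p = 5 ∨ p = 7) (hN0 : N ≠ 0)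
    (hN : N ≤ 2 ^ 20) : N ∣ 210 ^ 20 := by
  refine Nat.dvd_iff_prime_pow_dvd_dvd _ _ |>.2 fun p k hp hd => ?_
  rcases Nat.eq_zero_or_pos k with rfl | hk
  · simp
  have h1 : p ^ k ≤ 2 ^ 20 := (Nat.le_of_dvd (Nat.pos_of_ne_zero hN0) hd).trans hN
  have h2 : 2 ^ k ≤ 2 ^ 20 := (Nat.pow_le_pow_left hp.two_le k).trans h1
  have h3 : k ≤ 20 := (Nat.pow_le_pow_iff_right (show 1 < 2 by norm_num)).1 h2
  refine (pow_dvd_pow p h3).trans (pow_dvd_pow_of_dvd ?_ 20)
  rcases h p hp ((dvd_pow_self p hk.ne').trans hd) with rfl | rfl | rfl | rfl <;> norm_num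

/-- The numbers are those of the target. -/
theorem Spec.determine (S : Spec) (hS : S.Good) (hrun : S.run = true)
    (h : ∀ v, (∃ m, num G m ≠ 0 ∧ num G m = v) ↔ v = 1 ∨ v = S.two ∨ v ∈ S.vals) :
    Nat.card G = dsum S.target S.top ∧ ∀ m, num G m ≠ 0 → (m, num G m) ∈ S.target := by
  classical
  have hev : ∀ m, 2 < m → num G m % 2 = 0 := fun m hm =>
    Nat.mod_eq_zero_of_dvd ((Nat.totient_even hm).two_dvd.trans (totient_dvd_num m))
  have hone : num G 1 = 1 := by
    rw [num, Nat.card_eq_one_iff_unique]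
    exact ⟨⟨fun a b => Subtype.ext (by rw [orderOf_eq_one_iff.1 a.2, orderOf_eq_one_iff.1 b.2])⟩, ⟨⟨1, orderOf_one⟩⟩⟩
  have hzero : num G 0 = 0 := by
    by_contra hne
    obtain ⟨g, hg⟩ := num_ne_zero_iff.1 hne
    exact (orderOf_pos g).ne' hg
  have htwo : num G 2 = S.two := by
    obtain ⟨m, hm, e⟩ := (h S.two).2 (Or.inr (Or.inl rfl))
    rcases (show m = 0 ∨ m = 1 ∨ m = 2 ∨ 2 < m by omega) with rfl | rfl | rfl | h2
    · exact absurd hzero hm
    · exact absurd (e.symm.trans hone) hS.two_ne.1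
    · exact e
    · have := hev m h2
      rw [e, hS.two_ne.2] at this
      omega
  have hval : ∀ m, 2 < m → num G m ≠ 0 → num G m ∈ S.vals := fun m hm hne => by
    rcases (h _).1 ⟨m, hne, rfl⟩ with e | e | e
    · have := hev m hm; omega
    · have := hev m hm; have := hS.two_ne.2; omega
    · exact e
  have hp1 : ∀ p, p.Prime → num G p ≠ 0 → p ∣ 1 + num G p := fun p hp hne => by
    obtain ⟨g, hg⟩ := num_ne_zero_iff.1 hne
    have h1 := frobenius (hg ▸ orderOf_dvd_natCard g)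
    have hd : ([p, 1] : List ℕ).Nodup := by simp [hp.ne_one]
    rw [← dsum_full (G := G) hd (d := p) (fun k hk => by
      rcases (Nat.dvd_prime hp).1 (orderOf_dvd_of_pow_eq_one hk) with e | e <;> simp [e])] at h1
    simpa [enc, dsum, hne, hone, add_comm, Nat.mod_one] using h1
  have hprime : ∀ p, p.Prime → num G p ≠ 0 → p = 2 ∨ p = 3 ∨ p = 5 ∨ p = 7 := fun p hp hne => by
    rcases eq_or_ne p 2 with rfl | h2
    · exact Or.inl rfl
    have hv := hval p (lt_of_le_of_ne hp.two_le h2.symm) hne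
    obtain ⟨-, hpos, hlt⟩ := hS.even _ hv
    have hd : p - 1 ∣ num G p := Nat.totient_prime hp ▸ totient_dvd_num p
    exact hS.primes _ hv p (by have := Nat.le_of_dvd hpos hd; omega) hp hd (hp1 p hp hne)
  have htop : ∀ m, num G m ≠ 0 → m ∣ S.top := by
    intro m hm
    have hm0 : m ≠ 0 := by rintro rfl; exact hm hzero
    refine Nat.dvd_iff_prime_pow_dvd_dvd _ _ |>.2 fun p k hp hd => ?_
    rcases k with _ | k
    · simp
    have hq := num_ne_zero_of_dvd hm hd
    have hp' := hprime p hp (num_ne_zero_of_dvd hm ((dvd_pow_self p k.succ_ne_zero).trans hd))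
    have htot : p ^ k * (p - 1) ∣ num G (p ^ (k + 1)) := by
      rw [← Nat.add_sub_cancel k 1, ← Nat.totient_prime_pow hp k.succ_pos, Nat.add_sub_cancel]
      exact totient_dvd_num _
    have key : p ^ (k + 1) = 2 ∨ ∃ v ∈ S.vals, p ^ k * (p - 1) ∣ v ∧ (k = 0 → p ∣ 1 + v) ∧ k < 10 := by
      by_cases h2 : p ^ (k + 1) = 2
      · exact Or.inl h2
      have hgt : 2 < p ^ (k + 1) := by
        have : 2 ≤ p ^ (k + 1) := hp.two_le.trans (Nat.le_self_pow k.succ_ne_zero p)
        omega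
      refine Or.inr ⟨_, hval _ hgt hq, htot, fun hk => ?_, ?_⟩
      · subst hk
        have := hp1 p hp (by simpa using hq)
        simpa using this
      · obtain ⟨-, hpos, hlt⟩ := hS.even _ (hval _ hgt hq)
        have h1 := Nat.le_of_dvd hpos (dvd_of_mul_right_dvd htot)
        by_contra hk
        have h3 : 2 ^ 10 ≤ p ^ k :=
          (Nat.pow_le_pow_right two_pos (not_lt.1 hk)).trans (Nat.pow_le_pow_left hp.two_le k)
        omega
    have d2 : 2 ^ S.e2 ∣ S.top := ((dvd_mul_right _ _).mul_right _).mul_right _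
    have d3 : 3 ^ S.e3 ∣ S.top := ((dvd_mul_left _ _).mul_right _).mul_right _
    have d5 : 5 ^ S.e5 ∣ S.top := (dvd_mul_left _ _).mul_right _
    have d7 : 7 ^ S.e7 ∣ S.top := dvd_mul_left _ _
    rcases key with e | ⟨v, hv, hdv, hk0, hk⟩
    · rw [e]
      exact (dvd_pow_self 2 (Nat.one_le_iff_ne_zero.1 hS.e2pos)).trans d2
    obtain ⟨x2, x3, x5, x7⟩ := hS.exps v hv k hk
    rcases hp' with rfl | rfl | rfl | rfl
    · refine (pow_dvd_pow 2 ?_).trans d2
      rcases k with _ | k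
      · exact hS.e2pos
      · have h3 := (hS.exps v hv k (by omega)).1 (by simpa using hdv)
        omega
    · exact (pow_dvd_pow 3 (x3 hdv hk0)).trans d3
    · exact (pow_dvd_pow 5 (x5 hdv hk0)).trans d5
    · exact (pow_dvd_pow 7 (x7 hdv hk0)).trans d7
  have hvar : ∀ m, 2 < m → num G m ≠ 0 → ∃ x ∈ S.vars, x.1 = m ∧ num G m ∈ x.2.1 := by
    intro m hm hne
    obtain ⟨abc, d, hab, hd, rfl⟩ := Nat.dvd_mul.1 (htop m hne)
    obtain ⟨ab, c, hab2, hc, rfl⟩ := Nat.dvd_mul.1 hab
    obtain ⟨a, b, ha, hb, rfl⟩ := Nat.dvd_mul.1 hab2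
    have mem : ∀ {x n : ℕ}, 0 < n → x ∣ n → x ∈ divs n := fun {x n} hn hx => by
      rw [divs, List.mem_filter, List.mem_range]
      exact ⟨Nat.lt_succ_of_le (Nat.le_of_dvd hn hx), by simpa using Nat.mod_eq_zero_of_dvd hx⟩
    have cab : Nat.Coprime a b :=
      Nat.Coprime.of_dvd ha hb (Nat.Coprime.pow _ _ (by norm_num))
    have cabc : Nat.Coprime (a * b) c := Nat.Coprime.of_dvd hab2 hc
      (Nat.Coprime.mul_left (Nat.Coprime.pow _ _ (by norm_num)) (Nat.Coprime.pow _ _ (by norm_num)))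
    have cabcd : Nat.Coprime (a * b * c) d := Nat.Coprime.of_dvd hab hd
      (Nat.Coprime.mul_left (Nat.Coprime.mul_left (Nat.Coprime.pow _ _ (by norm_num))
        (Nat.Coprime.pow _ _ (by norm_num))) (Nat.Coprime.pow _ _ (by norm_num)))
    have ht := totient_dvd_num (G := G) (a * b * c * d)
    rw [Nat.totient_mul cabcd, Nat.totient_mul cabc, Nat.totient_mul cab] at ht
    refine (hS.cover a (mem (pow_pos two_pos _) ha) b (mem (pow_pos (by norm_num) _) hb) c
      (mem (pow_pos (by norm_num) _) hc) d (mem (pow_pos (by norm_num) _) hd) _ (hval _ hm hne) ht ?_).resolve_left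
      (by omega)
    intro hp
    refine hp1 _ ?_ hne
    rcases hp with e | e | e <;> rw [e] <;> norm_num
  -- the final state
  set L := (S.vars.map Prod.fst).reverse ++ [2, 1]
  have hall : ∀ g : G, orderOf g ∈ ([2, 1] : List ℕ) ∨ orderOf g ∈ S.vars.map Prod.fst := fun g => by
    rcases (show orderOf g = 1 ∨ orderOf g = 2 ∨ 2 < orderOf g by have := orderOf_pos g; omega) with e | e | e
    · simp [e]
    · simp [e]
    · obtain ⟨x, hx, hx1, -⟩ := hvar _ e (num_ne_zero_iff.2 ⟨g, rfl⟩)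
      exact Or.inr (hx1 ▸ List.mem_map_of_mem hx)
  have hL : ∀ g : G, orderOf g ∈ L := fun g => by
    rcases hall g with e | e
    · exact List.mem_append_right _ e
    · exact List.mem_append_left _ (List.mem_reverse.2 e)
  have h0 : enc G [2, 1] = [(2, S.two), (1, 1)] := by
    have h3 : S.two ≠ 0 := by
      have := hS.two_ne.2; omega
    simp [enc, h3, hone, htwo]
  have hleaf : S.leaf (enc G L) = true := search_sound S.leaf S.vars [2, 1] (by rw [h0]; exact hrun) hall hS.distinct hS.ordered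
    (fun x hx => ⟨fun hne => by
      obtain ⟨y, hy, hyx, hmem⟩ := hvar x.1 (hS.small x hx).1 hne
      have hnd : (S.vars.map Prod.fst).Nodup := List.nodup_reverse.1 (List.nodup_append.1 hS.distinct).1
      obtain rfl := List.inj_on_of_nodup_map hnd hy hx hyx
      exact hmem, (hS.small x hx).2.2⟩)
  have hN : dsum (enc G L) S.top = Nat.card G := by
    rw [dsum_full hS.distinct fun g _ => hL g]
    exact Nat.card_congr (Equiv.subtypeUnivEquiv fun g =>
      orderOf_dvd_iff_pow_eq_one.1 (htop _ (num_ne_zero_iff.2 ⟨g, rfl⟩)))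
  have hpres : ∀ m, num G m ≠ 0 → present (enc G L) m = true := fun m hne => by
    obtain ⟨g, hg⟩ := num_ne_zero_iff.1 hne
    exact (present_enc L m).2 ⟨hg ▸ hL g, hne⟩
  have hmem : ∀ (l : List ℕ) (x : ℕ × ℕ), x ∈ enc G l ↔ x.1 ∈ l ∧ num G x.1 ≠ 0 ∧ x.2 = num G x.1 := by
    intro l x
    induction l with
    | nil => simp [enc]
    | cons m r ih =>
      by_cases hm : num G m = 0
      · rw [enc, if_pos hm, ih, List.mem_cons]
        exact ⟨fun hh => ⟨Or.inr hh.1, hh.2⟩, fun hh => ⟨hh.1.resolve_left fun e => hh.2.1 (e ▸ hm), hh.2⟩⟩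
      · rw [enc, if_neg hm, List.mem_cons, ih, List.mem_cons]
        constructor
        · rintro (rfl | hh)
          · exact ⟨Or.inl rfl, hm, rfl⟩
          · exact ⟨Or.inr hh.1, hh.2⟩
        · rintro ⟨rfl | hh, h1, h2⟩
          · exact Or.inl (Prod.ext rfl h2)
          · exact Or.inr ⟨hh, h1, h2⟩
  by_cases heq : enc G L = S.target
  · refine ⟨by rw [← hN, heq], fun m hne => ?_⟩
    rw [← heq, hmem]
    obtain ⟨g, hg⟩ := num_ne_zero_iff.1 hne
    exact ⟨hg ▸ hL g, hne, rfl⟩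
  exfalso
  rw [Spec.leaf, if_neg (by simpa using heq)] at hleaf
  simp only [hN, Bool.not_eq_true'] at hleaf
  have k1 : (decide (2 ^ 20 < Nat.card G) || 210 ^ 20 % Nat.card G == 0) = true := by
    by_cases hb : 2 ^ 20 < Nat.card G
    · rw [decide_eq_true hb, Bool.true_or]
    · have := dvd_bound (N := Nat.card G) (fun p hp hd => by
        haveI : Fact p.Prime := ⟨hp⟩
        obtain ⟨g, hg⟩ := exists_prime_orderOf_dvd_card' p hd
        exact hprime p hp (num_ne_zero_iff.2 ⟨g, hg⟩)) Nat.card_pos.ne' (not_lt.1 hb)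
      rw [Nat.mod_eq_zero_of_dvd this]; simp
  have k2 : (enc G L).all (fun p => Nat.card G % p.1 == 0) = true := by
    rw [List.all_eq_true]
    intro x hx
    obtain ⟨g, hg⟩ := num_ne_zero_iff.1 ((hmem L x).1 hx).2.1
    simpa using Nat.mod_eq_zero_of_dvd (hg ▸ orderOf_dvd_natCard g)
  have k3 : S.primes.all (fun p => Nat.card G % p != 0 || present (enc G L) p) = true := by
    rw [hS.checks, List.all_eq_true]
    intro p hp
    by_cases hd : Nat.card G % p = 0
    · have hpp : p.Prime := by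
        simp only [List.mem_cons, List.not_mem_nil, or_false] at hp
        rcases hp with rfl | rfl | rfl | rfl <;> norm_num
      haveI : Fact p.Prime := ⟨hpp⟩
      obtain ⟨g, hg⟩ := exists_prime_orderOf_dvd_card' p (Nat.dvd_of_mod_eq_zero hd)
      simp [hpres p (num_ne_zero_iff.2 ⟨g, hg⟩)]
    · simp [hd]
  have k4 : S.checks.all (fun d => Nat.card G % d != 0 || dsum (enc G L) d % d == 0) = true := by
    rw [List.all_eq_true]
    intro d _
    by_cases hd : Nat.card G % d = 0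
    · rw [dsum_full hS.distinct fun g _ => hL g, Nat.mod_eq_zero_of_dvd (frobenius (Nat.dvd_of_mod_eq_zero hd))]
      simp
    · simp [hd]
  have k5 : S.vals.all (fun v => (enc G L).any (fun p => p.2 == v)) = true := by
    rw [List.all_eq_true]
    intro v hv
    obtain ⟨m, hne, e⟩ := (h v).2 (Or.inr (Or.inr hv))
    obtain ⟨g, hg⟩ := num_ne_zero_iff.1 hne
    rw [List.any_eq_true]
    exact ⟨(m, num G m), (hmem L _).2 ⟨hg ▸ hL g, hne, rfl⟩, by simpa using e⟩
  rw [k1, k2, k3, k4, k5] at hleaf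
  simp at hleaf

theorem four_good : four.Good := by
  refine ⟨?_, ?_, ?_, ?_, ?_, ?_, ?_, ?_, ?_, rfl⟩ <;> decide +kernel

theorem five_good : five.Good := by
  refine ⟨?_, ?_, ?_, ?_, ?_, ?_, ?_, ?_, ?_, rfl⟩ <;> decide +kernel

theorem six_good : six.Good := by
  refine ⟨?_, ?_, ?_, ?_, ?_, ?_, ?_, ?_, ?_, rfl⟩ <;> decide +kernel

end Cfsg.Agent.Fus.Nse
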